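import Groth.Agent.Lib.IsQuot25.Exists
import Groth.Agent.Lib.IsQuot25.Props
import Groth.Agent.Lib.NormBundle5.Rel
import Groth.Agent.Lib.Ample18.Avoid
import Groth.Agent.Lib.RelAmple18.Ops
import Groth.Prelude.Def_RelProj

/-!
# Quotients of quasi-projective schemes by finite groups
-/

set_option autoImplicit false
set_option linter.style.haveILetI false
set_option backward.isDefEq.respectTransparency false
set_option backward.isDefEq.respectTransparency.types false

universe u

open CategoryTheory CategoryTheory.Limits AlgebraicGeometry TopologicalSpace Opposite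

noncomputable section

namespace Groth.Agent.QuotAmple14

open Groth.Agent IsQuot25

variable {X Y : Scheme.{u}} {G : Type u} [Group G] {ρ : G →* Aut X} {q : X ⟶ Y}

section Norm

variable [Fintype G] (hq : SGA1.IsQuot ρ q)

/-- The product of the translates of a section. -/
def orbitProd (W : Y.Opens) (a : Γ(X, q ⁻¹ᵁ W)) : Γ(X, q ⁻¹ᵁ W) :=
  ∏ g : G, actHom hq.inv W g a

theorem orbitProd_inv (W : Y.Opens) (a : Γ(X, q ⁻¹ᵁ W)) (h : G) :
    actHom hq.inv W h (orbitProd hq W a) = orbitProd hq W a := by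
  rw [orbitProd, map_prod]
  exact Fintype.prod_equiv (Equiv.mulRight h) _ _ fun g =>
    (congrArg (fun φ => φ a) (actHom_mul hq.inv W g h)).symm

theorem exists_norm (W : Y.Opens) (a : Γ(X, q ⁻¹ᵁ W)) : ∃ c : Γ(Y, W), q.app W c = orbitProd hq W a :=
  Set.mem_range.1 ((hq.range_iff W _).2 fun g => orbitProd_inv hq W a g)

/-- The norm of a section over the preimage. -/
def normFun (W : Y.Opens) : Γ(X, q ⁻¹ᵁ W) →* Γ(Y, W) where
  toFun a := (exists_norm hq W a).choose
  map_one' := hq.injective W (by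
    rw [(exists_norm hq W 1).choose_spec, map_one, orbitProd]
    exact Finset.prod_eq_one fun g _ => map_one _)
  map_mul' a b := hq.injective W (by
    rw [map_mul, (exists_norm hq W (a * b)).choose_spec, (exists_norm hq W a).choose_spec,
      (exists_norm hq W b).choose_spec, orbitProd, orbitProd, orbitProd, ← Finset.prod_mul_distrib]
    exact Finset.prod_congr rfl fun g _ => map_mul _ _ _)

theorem app_normFun (W : Y.Opens) (a : Γ(X, q ⁻¹ᵁ W)) : q.app W (normFun hq W a) = orbitProd hq W a :=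
  (exists_norm hq W a).choose_spec

/-- The product of the translates as norms along a quotient. -/
def mulNorm : NormBundle5.MulNorm q where
  N := normFun hq
  N_res W W' le a := hq.injective W' (by
    rw [app_normFun]
    refine (app_map_apply q le (normFun hq W a)).trans ?_
    rw [app_normFun, orbitProd, orbitProd, map_prod]
    exact Finset.prod_congr rfl fun g _ => actHom_map_apply hq.inv le g a)
  vanish W a z hz h := by
    obtain ⟨x, rfl⟩ := IsQuot25.surjective hq z
    intro hc
    have hx : x ∈ q ⁻¹ᵁ Y.basicOpen (normFun hq W a) := hc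
    rw [Scheme.preimage_basicOpen, app_normFun, Scheme.mem_basicOpen X _ x hz, orbitProd, map_prod] at hx
    have hu := isUnit_of_dvd_unit (Finset.dvd_prod_of_mem _ (Finset.mem_univ (1 : G))) hx
    rw [actHom_one] at hu
    exact h x rfl ((Scheme.mem_basicOpen X a x hz).2 hu)

end Norm

/-- Every orbit of a finite group on a quasi-projective scheme over any base lies in an affine open. -/
theorem exists_affine_orbit [Finite G] {S : Scheme.{u}} (f : X ⟶ S) (hρ : ∀ σ : G, (ρ σ).hom ≫ f = f)
    {L : X.Modules} (hL : RelAmple.IsRelAmple f L) (x : X) :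
    ∃ U : X.Opens, IsAffineOpen U ∧ ∀ g : G, (ρ g).hom x ∈ U := by
  obtain ⟨V, hV, hxV, -⟩ := exists_isAffineOpen_mem_and_subset (show f x ∈ (⊤ : S.Opens) from trivial)
  have hmem : ∀ g : G, (ρ g).hom x ∈ f ⁻¹ᵁ V := fun g => by
    show f ((ρ g).hom x) ∈ V
    rw [← Scheme.Hom.comp_apply, hρ]
    exact hxV
  obtain ⟨n, U, -, hU, -, hA⟩ := Amp.exists_affine_hasSec_finite (hL.2 ⟨V, hV⟩)
    (Set.finite_range fun g : G => (⟨(ρ g).hom x, hmem g⟩ : (f ⁻¹ᵁ V).toScheme)) (U := ⊤) (Set.subset_univ _)
  exact ⟨(f ⁻¹ᵁ V).ι ''ᵁ U, hA.image_of_isOpenImmersion _, fun g => ⟨_, hU ⟨g, rfl⟩, rfl⟩⟩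

/-- The quotient of a quasi-projective scheme by a finite group is quasi-projective. -/
theorem exists_quot_isQuasiProjective [Finite G] {S : Scheme.{u}} (f : X ⟶ S) [IsLocallyNoetherian S]
    (hρ : ∀ σ : G, (ρ σ).hom ≫ f = f) (hf : RelProj.IsQuasiProjective f) :
    ∃ (Y : Scheme.{u}) (q : X ⟶ Y) (h : Y ⟶ S), q ≫ h = f ∧ SGA1.IsQuot ρ q ∧ RelProj.IsQuasiProjective h := by
  cases nonempty_fintype G
  obtain ⟨hft, hqc, L, hL⟩ := hf
  obtain ⟨Y, q, hq⟩ := exists_isQuot ρ fun x => exists_affine_orbit f hρ hL x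
  obtain ⟨h, hh, -⟩ := desc_unique hq f hρ
  haveI : LocallyOfFiniteType (q ≫ h) := by rw [hh]; exact hft
  haveI : QuasiCompact (q ≫ h) := by rw [hh]; exact hqc
  haveI : IsFinite q := isFinite_of_comp hq h
  haveI : Surjective q := ⟨IsQuot25.surjective hq⟩
  haveI := IsQuot25.quasiCompact hq h
  obtain ⟨M, hM, hMA⟩ := NormBundle5.exists_isRelAmple h (mulNorm hq)
    (RA.isInvertible_of_isRelAmple f hL) (by rw [hh]; exact hL)
  exact ⟨Y, q, h, hh, hq, IsQuot25.locallyOfFiniteType hq h, inferInstance, M, hMA⟩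

end Groth.Agent.QuotAmple14
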